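import Cfsg.Agent.Omega.EH3.M22.Gram
import Mathlib
import Cfsg.Agent.SporadicA.MathieuRecog
import Cfsg.Agent.OddHalf.MM.Sheet
import Cfsg.Agent.Omega.EH3.Row

section


/-!
# EH3, row `M22`: elementary abelian subgroups of order at least 32 of `M22:2` are conjugate to `P` (helper969)
-/

set_option autoImplicit false

namespace Cfsg.Agent.Omega.EH3.M22.Sub32

open Cfsg Cfsg.Agent.KFacts.MM.Sub Cfsg.Agent.KFacts.MM.OutP Cfsg.Agent.KFacts.MM.OutS
open Cfsg.Agent.J4Type.Aut22 (D22 mem_D22_iff M22_le_D22 mem_M22_iff_D22 card_D22)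
open Cfsg.Agent.OddHalf.MM (Nrm Cen El)
open Subgroup

/-- a 2-subgroup of `M22:2` is conjugate to a subgroup of `SA` -/
theorem exists_conj_SA {E : Subgroup (Equiv.Perm GolayPt)} (hE : E ≤ D22) (h2 : IsPGroup 2 E) :
    ∃ g ∈ D22, ∀ x ∈ E, g * x * g⁻¹ ∈ SA := by
  have : Fact (Nat.Prime 2) := ⟨Nat.prime_two⟩
  have hE2 : IsPGroup 2 (E.subgroupOf D22) := h2.comap_of_injective D22.subtype D22.subtype_injective
  have hS2 : IsPGroup 2 (SA.subgroupOf D22) :=
    isPGroup_SA.comap_of_injective D22.subtype D22.subtype_injective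
  obtain ⟨Q1, hQ1⟩ := hE2.exists_le_sylow
  obtain ⟨Q2, hQ2⟩ := hS2.exists_le_sylow
  have hQ2' : (Q2 : Subgroup D22) = SA.subgroupOf D22 := by
    symm
    apply eq_of_le_of_card_ge hQ2
    have h3 := card_le_of_two card_D22 Q2.isPGroup'
    rw [Nat.card_congr (subgroupOfEquivOfLe SA_le).toEquiv, card_SA]
    exact h3
  obtain ⟨g, hg⟩ := MulAction.exists_smul_eq D22 Q1 Q2
  refine ⟨g, g.2, fun x hx => ?_⟩
  have h4 : (⟨x, hE hx⟩ : D22) ∈ (Q1 : Subgroup D22) := hQ1 hx
  have h5 : g * ⟨x, hE hx⟩ * g⁻¹ ∈ (Q2 : Subgroup D22) := by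
    rw [← hg, Sylow.smul_def, Sylow.pointwise_smul_def]
    exact Subgroup.smul_mem_pointwise_smul _ (MulAut.conj g) _ h4
  rw [hQ2'] at h5
  exact h5

theorem exists_conj_P {E : Subgroup (Equiv.Perm GolayPt)} (hE : E ≤ D22) (hel : El E)
    (h32 : 32 ≤ Nat.card E) : ∃ g ∈ D22, ∀ x, x ∈ E ↔ g * x * g⁻¹ ∈ P := by
  have h2 : IsPGroup 2 E := by
    intro x
    refine ⟨1, ?_⟩
    apply Subtype.ext
    show (x : Equiv.Perm GolayPt) ^ (2 ^ 1) = 1
    rw [pow_one, pow_two]
    exact hel x x.2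
  obtain ⟨g, hg, h⟩ := exists_conj_SA hE h2
  have hmap : E.map (MulAut.conj g).toMonoidHom = P := by
    apply el32
    · rintro _ ⟨x, hx, rfl⟩
      exact h x hx
    · rintro _ ⟨x, hx, rfl⟩
      show g * x * g⁻¹ * (g * x * g⁻¹) = 1
      have e : g * x * g⁻¹ * (g * x * g⁻¹) = g * (x * x) * g⁻¹ := by group
      rw [e, hel x hx]
      group
    · rwa [card_map_of_injective (MulAut.conj g).injective]
  refine ⟨g, hg, fun x => ?_⟩
  rw [← hmap]
  constructor
  · intro hx
    exact ⟨x, hx, rfl⟩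
  · rintro ⟨y, hy, e⟩
    have e' : g * y * g⁻¹ = g * x * g⁻¹ := e
    rw [← mul_left_cancel (mul_right_cancel e')]
    exact hy

theorem card_le_32 {E : Subgroup (Equiv.Perm GolayPt)} (hE : E ≤ D22) (hel : El E) :
    Nat.card E ≤ 32 := by
  by_contra hcon
  obtain ⟨g, -, h⟩ := exists_conj_P hE hel (by omega)
  have h1 : Nat.card E ≤ Nat.card P := by
    apply Nat.card_le_card_of_injective (fun x : E => (⟨g * x * g⁻¹, (h x).1 x.2⟩ : P))
    intro x y hxy
    have e : g * (x : Equiv.Perm GolayPt) * g⁻¹ = g * y * g⁻¹ := congrArg Subtype.val hxy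
    exact Subtype.ext (mul_left_cancel (mul_right_cancel e))
  rw [cardP] at h1
  omega

end Cfsg.Agent.Omega.EH3.M22.Sub32

end

section


/-!
# EH3, row `M22`: irreducibility by an element of order 11 (helper969)

`Inp` : the input (abstract linear setting). `card_CH`: `C_H(L)` has order 1 or 3.
-/

set_option autoImplicit false

namespace Cfsg.Agent.Omega.EH3.M22.Irr

open Cfsg Subgroup

/-- the input -/
structure Inp {H V : Type*} [Group H] [AddCommGroup V] [DistribMulAction H V] (f : V → V → ZMod 2)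
    (A L : Subgroup H) (a : V) (w : ℕ) : Prop where
  two : ∀ v : V, v + v = 0
  faith : ∀ h : H, (∀ v : V, h • v = v) → h = 1
  irr : ∀ U : AddSubgroup V, (∀ h : H, ∀ u ∈ U, h • u ∈ U) → (∃ u ∈ U, u ≠ 0) → ∀ v, v ∈ U
  fadd : ∀ u v v', f u (v + v') = f u v + f u v'
  finv : ∀ (h : H) (u v : V), f (h • u) (h • v) = f u v
  fnd : ∀ u, (∀ v, f u v = 0) → u = 0
  hw : 6 ≤ w
  cardV : Nat.card V = 2 ^ (2 * w)
  elA : ∀ x ∈ A, x * x = 1
  cardA : Nat.card A = 2 ^ (w - 1)
  a0 : a ≠ 0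
  aA : ∀ x ∈ A, x • a = a
  CA : ∀ v : V, (∀ x ∈ A, x • v = v) → v = 0 ∨ v = a
  semi : ∀ v, f a v = 1 → ∀ x ∈ A, x • v = v → x = 1
  nL : L.Normal
  perf : ⁅L, L⁆ = L
  iso : Spor.IsoM22 (L ⧸ center L)
  AL : ∀ x ∈ A, (∀ l ∈ L, x * l = l * x) → x = 1

section

variable {H V : Type*} [Group H] [AddCommGroup V] [DistribMulAction H V] {f : V → V → ZMod 2}
  {A L : Subgroup H} {a : V} {w : ℕ}

/-! ### Normal subgroups of `L` -/

/-- a subgroup `M` of `L` normalised by `L` and not central in `L` is `L` -/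
theorem eq_of_normal (perf : ⁅L, L⁆ = L) (iso : Spor.IsoM22 (L ⧸ center L)) {M : Subgroup H}
    (hM : M ≤ L) (hn : ∀ l ∈ L, ∀ m ∈ M, l * m * l⁻¹ ∈ M)
    (hc : ∃ m ∈ M, ∃ l ∈ L, m * l ≠ l * m) : M = L := by
  obtain ⟨e⟩ := iso
  have hs : IsSimpleGroup (L ⧸ center L) :=
    have := SporadicA.MathieuRecog.simple_M22
    e.isSimpleGroup
  have hN : (M.subgroupOf L).Normal := ⟨fun n hn' g => hn g g.2 n hn'⟩
  have hNm : ((M.subgroupOf L).map (QuotientGroup.mk' (center L))).Normal :=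
    hN.map _ (QuotientGroup.mk'_surjective _)
  rcases hNm.eq_bot_or_eq_top with h | h
  · exfalso
    obtain ⟨m, hm, l, hl, hne⟩ := hc
    rw [Subgroup.map_eq_bot_iff, QuotientGroup.ker_mk'] at h
    have h1 : (⟨m, hM hm⟩ : L) ∈ center L := h hm
    have h2 := mem_center_iff.1 h1 ⟨l, hl⟩
    exact hne (congrArg Subtype.val h2).symm
  · apply le_antisymm hM
    rw [← perf, commutator_le]
    have key : ∀ l : L, ∃ n ∈ M, ∃ c : L, (∀ y ∈ L, y * (c : H) = c * y) ∧ (l : H) = n * c := by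
      intro l
      have h1 : (QuotientGroup.mk' (center L)) l ∈
          (M.subgroupOf L).map (QuotientGroup.mk' (center L)) := by
        rw [h]
        trivial
      obtain ⟨n, hn', h2⟩ := h1
      have h3 : n⁻¹ * l ∈ center L := QuotientGroup.eq.1 h2
      refine ⟨n, hn', n⁻¹ * l, fun y hy => ?_, ?_⟩
      · exact congrArg Subtype.val (mem_center_iff.1 h3 ⟨y, hy⟩)
      · show (l : H) = n * ((n : H)⁻¹ * l)
        group
    intro l hl l' hl'
    obtain ⟨n, hn1, c, hc1, e1⟩ := key ⟨l, hl⟩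
    obtain ⟨n', hn2, c', hc2, e2⟩ := key ⟨l', hl'⟩
    have e1 : l = n * c := e1
    have e2 : l' = n' * c' := e2
    have h1 : n * n' * n⁻¹ * n'⁻¹ ∈ M :=
      mul_mem (mul_mem (mul_mem hn1 hn2) (inv_mem hn1)) (inv_mem hn2)
    have h2 : l * l' * l⁻¹ * l'⁻¹ = n * n' * n⁻¹ * n'⁻¹ := by
      have k1 : (c : H) * n' = n' * c := (hc1 n' (hM hn2)).symm
      have k2 : (c' : H) * n⁻¹ = n⁻¹ * c' := (hc2 n⁻¹ (inv_mem (hM hn1))).symm
      have k3 : (c : H) * c' = c' * c := (hc1 c' c'.2).symm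
      calc l * l' * l⁻¹ * l'⁻¹ = n * c * (n' * c') * (n * c)⁻¹ * (n' * c')⁻¹ := by rw [e1, e2]
        _ = n * (c * n') * c' * (c : H)⁻¹ * n⁻¹ * (c' : H)⁻¹ * n'⁻¹ := by group
        _ = n * n' * (c * c') * (c : H)⁻¹ * n⁻¹ * (c' : H)⁻¹ * n'⁻¹ := by rw [k1]; group
        _ = n * n' * (c' * n⁻¹) * (c' : H)⁻¹ * n'⁻¹ := by rw [k3]; group
        _ = n * n' * n⁻¹ * n'⁻¹ := by rw [k2]; group
    rw [commutatorElement_def, h2]
    exact h1

/-- a noncentral 11-element of `L` -/
theorem exists_rho [Finite H] (iso : Spor.IsoM22 (L ⧸ center L)) :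
    ∃ ρ ∈ L, (∃ l ∈ L, ρ * l ≠ l * ρ) ∧ ∃ k : ℕ, ρ ^ 11 ^ k = 1 := by
  obtain ⟨e⟩ := iso
  have : Fact (Nat.Prime 11) := ⟨by norm_num⟩
  have h1 : 11 ∣ (center L).index := by
    rw [Subgroup.index_eq_card, Nat.card_congr e.toEquiv, SporadicA.MathieuRecog.card_M22]
    norm_num
  obtain ⟨P⟩ : Nonempty (Sylow 11 L) := inferInstance
  have h2 : ¬ (P : Subgroup L) ≤ center L := by
    intro h
    have h3 := Subgroup.index_dvd_of_le h
    exact P.not_dvd_index (h1.trans h3)
  rw [SetLike.not_le_iff_exists] at h2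
  obtain ⟨ρ, hρ, hc⟩ := h2
  obtain ⟨k, hk⟩ := P.isPGroup' ⟨ρ, hρ⟩
  refine ⟨ρ, ρ.2, ?_, k, ?_⟩
  · by_contra hcon
    push Not at hcon
    apply hc
    rw [mem_center_iff]
    intro l
    exact Subtype.ext (hcon l l.2).symm
  · have h4 : ρ ^ 11 ^ k = 1 := congrArg Subtype.val hk
    exact congrArg Subtype.val h4

/-! ### Counting modulo 11 -/

/-- `v ↦ ρ v - v` -/
def del (ρ : H) : V →+ V where
  toFun v := ρ • v - v
  map_zero' := by rw [smul_zero, sub_zero]
  map_add' u v := by rw [smul_add]; abel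

theorem del_apply (ρ : H) (v : V) : del ρ v = ρ • v - v := rfl

theorem pow_two_of_dvd {n m : ℕ} (h : n ∣ 2 ^ m) : ∃ k ≤ m, n = 2 ^ k := (Nat.dvd_prime_pow Nat.prime_two).1 h

theorem ten_le {u k : ℕ} (hk : k < u) (h : 2 ^ u ≡ 2 ^ k [MOD 11]) : k + 10 ≤ u := by
  by_contra hcon
  obtain ⟨j, rfl⟩ := Nat.exists_eq_add_of_lt hk
  have hj : j + 1 < 10 := by omega
  have h1 : 2 ^ (j + 1) ≡ 1 [MOD 11] := by
    have h2 : 2 ^ k * 2 ^ (j + 1) ≡ 2 ^ k * 1 [MOD 11] := by
      rw [mul_one, ← pow_add]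
      exact h
    exact Nat.ModEq.cancel_left_of_coprime (by
      rw [Nat.gcd_comm]
      exact Nat.Coprime.pow_left k (by norm_num)) h2
  have h3 : ∀ j < 9, ¬ (2 ^ (j + 1) ≡ 1 [MOD 11]) := by decide
  exact h3 j (by omega) h1

/-- counting fixed points in an invariant subgroup -/
theorem count [Finite V] {ρ : H} {k : ℕ} (hρ : ρ ^ 11 ^ k = 1) {U : AddSubgroup V}
    (hU : ∀ u ∈ U, ρ • u ∈ U) :
    Nat.card U ≡ Nat.card (U ⊓ (del ρ : V →+ V).ker : AddSubgroup V) [MOD 11] := by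
  classical
  have : Fact (Nat.Prime 11) := ⟨by norm_num⟩
  have := Fintype.ofFinite U
  let g : Function.End U := fun u => ⟨ρ • (u : V), hU u u.2⟩
  have hg : ∀ n : ℕ, ∀ u : U, (((g ^ n) u : U) : V) = ρ ^ n • (u : V) := by
    intro n
    induction n with
    | zero =>
      intro u
      rw [pow_zero, pow_zero, one_smul]
      rfl
    | succ n ih =>
      intro u
      rw [pow_succ', pow_succ', mul_smul, ← ih]
      rfl
  have h1 : g ^ 11 ^ k = 1 := by
    funext u
    apply Subtype.ext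
    rw [hg, hρ, one_smul]
    rfl
  have h2 := Equiv.Perm.card_fixedPoints_modEq h1
  rw [← Nat.card_eq_fintype_card, ← Nat.card_eq_fintype_card] at h2
  have h3 : Nat.card (Function.fixedPoints g) = Nat.card (U ⊓ (del ρ : V →+ V).ker : AddSubgroup V) := by
    apply Nat.card_congr
    refine ⟨fun u => ⟨u.1, u.1.2, ?_⟩, fun u => ⟨⟨u.1, u.2.1⟩, ?_⟩, fun u => rfl, fun u => rfl⟩
    · have h4 : g u.1 = u.1 := u.2
      have h5 : ρ • (u.1 : V) = u.1 := congrArg Subtype.val h4
      show ρ • ((u.1 : U) : V) - (u.1 : U) = 0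
      rw [h5, sub_self]
    · show g _ = _
      apply Subtype.ext
      have h4 : ρ • (u : V) - u = 0 := u.2.2
      exact sub_eq_zero.1 h4
  rw [h3] at h2
  exact h2

/-- `|U| = |δ(U)| |C_U(ρ)|` -/
theorem card_map_del [Finite V] (ρ : H) (U : AddSubgroup V) :
    Nat.card U = Nat.card (U.map (del ρ)) * Nat.card (U ⊓ (del ρ : V →+ V).ker : AddSubgroup V) := by
  let g : U →+ V := (del ρ : V →+ V).comp U.subtype
  have h1 : Nat.card g.ker = Nat.card (U ⊓ (del ρ : V →+ V).ker : AddSubgroup V) := by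
    apply Nat.card_congr
    exact ⟨fun u => ⟨u.1, u.1.2, u.2⟩, fun u => ⟨⟨u.1, u.2.1⟩, u.2.2⟩, fun u => rfl, fun u => rfl⟩
  have h2 : g.range = U.map (del ρ) := by
    rw [AddMonoidHom.range_comp, AddSubgroup.range_subtype]
  rw [← h1, ← h2, ← AddSubgroup.index_ker, mul_comm]
  exact (AddSubgroup.card_mul_index g.ker).symm

end

end Cfsg.Agent.Omega.EH3.M22.Irr

end

section


/-!
# EH3, row `M22`: the homomorphism `τ : H → D22 = Aut(M22)` (helper969)
-/

set_option autoImplicit false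

namespace Cfsg.Agent.Omega.EH3.M22.Tau

open Cfsg Subgroup
open Cfsg.Agent.J4Type.Aut22 (D22 mem_D22_iff M22_le_D22)

/-- automorphisms of the quotient by the centre -/
noncomputable def κ (X : Type*) [Group X] : MulAut X →* MulAut (X ⧸ center X) where
  toFun α := QuotientGroup.congr (center X) (center X) α
    (Subgroup.characteristic_iff_map_eq.1 inferInstance α)
  map_one' := by
    apply MulEquiv.ext
    intro x
    induction x using QuotientGroup.induction_on with
    | H x => rfl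
  map_mul' α β := by
    apply MulEquiv.ext
    intro x
    induction x using QuotientGroup.induction_on with
    | H x => rfl

theorem κ_apply {X : Type*} [Group X] (α : MulAut X) (x : X) :
    κ X α (x : X ⧸ center X) = ((α x : X) : X ⧸ center X) := rfl

section

variable {H : Type*} [Group H] {L : Subgroup H}

/-- an element acting trivially on `L / Z(L)` centralises `L` -/
theorem comm_of_quot [hn : L.Normal] (perf : ⁅L, L⁆ = L) {h : H}
    (hq : κ L (MulAut.conjNormal h) = 1) : ∀ l ∈ L, h * l = l * h := by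
  have hc : ∀ l ∈ L, ∀ y ∈ L, y * (h * l * h⁻¹ * l⁻¹) = h * l * h⁻¹ * l⁻¹ * y := by
    intro l hl y hy
    have h1 : κ L (MulAut.conjNormal h) ((⟨l, hl⟩ : L) : L ⧸ center L) = ((⟨l, hl⟩ : L) : L ⧸ center L) := by
      rw [hq]
      rfl
    rw [κ_apply] at h1
    have h2 := QuotientGroup.eq.1 h1.symm
    have h3 := mem_center_iff.1 h2 (⟨l, hl⟩ * ⟨y, hy⟩ * ⟨l, hl⟩⁻¹)
    have h4 : l * y * l⁻¹ * (l⁻¹ * (h * l * h⁻¹)) = l⁻¹ * (h * l * h⁻¹) * (l * y * l⁻¹) :=
      congrArg Subtype.val h3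
    have h5 : ∀ x ∈ L, x * (l⁻¹ * (h * l * h⁻¹)) = l⁻¹ * (h * l * h⁻¹) * x := by
      intro x hx
      exact congrArg Subtype.val (mem_center_iff.1 h2 ⟨x, hx⟩)
    have h6 : h * l * h⁻¹ * l⁻¹ = l⁻¹ * (h * l * h⁻¹) := by
      have h7 := h5 l⁻¹ (inv_mem hl)
      have h8 := h5 l hl
      calc h * l * h⁻¹ * l⁻¹ = l * (l⁻¹ * (h * l * h⁻¹)) * l⁻¹ := by group
        _ = l⁻¹ * (h * l * h⁻¹) * l * l⁻¹ := by rw [h8]
        _ = l⁻¹ * (h * l * h⁻¹) := by group
    rw [h6]
    exact h5 y hy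
  -- the centraliser of `h` in `L`
  let M : Subgroup H := L ⊓ centralizer ({h} : Set H)
  have hM : L ≤ M := by
    rw [← perf, commutator_le]
    intro l hl l' hl'
    rw [Subgroup.mem_inf, commutatorElement_def]
    refine ⟨?_, ?_⟩
    · exact mul_mem (mul_mem (mul_mem hl hl') (inv_mem hl)) (inv_mem hl')
    · rw [mem_centralizer_singleton_iff]
      have k1 := hc l hl
      have k2 := hc l' hl'
      have e1 : h * l * h⁻¹ = h * l * h⁻¹ * l⁻¹ * l := by group
      have e2 : h * l' * h⁻¹ = h * l' * h⁻¹ * l'⁻¹ * l' := by group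
      have key : h * (l * l' * l⁻¹ * l'⁻¹) * h⁻¹ = l * l' * l⁻¹ * l'⁻¹ := by
        have q1 := k1 l' hl'
        have q2 := k2 l⁻¹ (inv_mem hl)
        have q3 : (h * l * h⁻¹ * l⁻¹) * (h * l' * h⁻¹ * l'⁻¹) = (h * l' * h⁻¹ * l'⁻¹) * (h * l * h⁻¹ * l⁻¹) := by
          apply k2
          exact mul_mem (hn.conj_mem l hl h) (inv_mem hl)
        generalize h * l * h⁻¹ * l⁻¹ = c at *
        generalize h * l' * h⁻¹ * l'⁻¹ = c' at *
        calc h * (l * l' * l⁻¹ * l'⁻¹) * h⁻¹
            = (h * l * h⁻¹) * (h * l' * h⁻¹) * (h * l * h⁻¹)⁻¹ * (h * l' * h⁻¹)⁻¹ := by group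
          _ = (c * l) * (c' * l') * (c * l)⁻¹ * (c' * l')⁻¹ := by rw [e1, e2]
          _ = c * l * c' * l' * l⁻¹ * c⁻¹ * l'⁻¹ * c'⁻¹ := by group
          _ = l * l' * l⁻¹ * l'⁻¹ := by
            have r1 : c * l = l * c := (k1 l hl).symm
            have r2 : c' * l' = l' * c' := (k2 l' hl').symm
            have r3 : c * l' = l' * c := q1.symm
            have r4 : c' * l⁻¹ = l⁻¹ * c' := q2.symm
            have r5 : c⁻¹ * l'⁻¹ = l'⁻¹ * c⁻¹ := by
              rw [← mul_inv_rev, ← mul_inv_rev, r3]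
            calc c * l * c' * l' * l⁻¹ * c⁻¹ * l'⁻¹ * c'⁻¹
                = l * c * (c' * l') * l⁻¹ * (c⁻¹ * l'⁻¹) * c'⁻¹ := by rw [r1]; group
              _ = l * c * (l' * c') * l⁻¹ * (l'⁻¹ * c⁻¹) * c'⁻¹ := by rw [r2, r5]
              _ = l * (c * l') * (c' * l⁻¹) * l'⁻¹ * c⁻¹ * c'⁻¹ := by group
              _ = l * (l' * c) * (l⁻¹ * c') * l'⁻¹ * c⁻¹ * c'⁻¹ := by rw [r3, r4]
              _ = l * l' * (c * l⁻¹) * (c' * l'⁻¹) * c⁻¹ * c'⁻¹ := by group
              _ = l * l' * (l⁻¹ * c) * (l'⁻¹ * c') * c⁻¹ * c'⁻¹ := by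
                have r6 : c * l⁻¹ = l⁻¹ * c := by
                  rw [mul_inv_eq_iff_eq_mul, mul_assoc, r1, inv_mul_cancel_left]
                have r7 : c' * l'⁻¹ = l'⁻¹ * c' := by
                  rw [mul_inv_eq_iff_eq_mul, mul_assoc, r2, inv_mul_cancel_left]
                rw [r6, r7]
              _ = l * l' * l⁻¹ * (c * l'⁻¹) * c' * c⁻¹ * c'⁻¹ := by group
              _ = l * l' * l⁻¹ * (l'⁻¹ * c) * c' * c⁻¹ * c'⁻¹ := by
                have r8 : c * l'⁻¹ = l'⁻¹ * c := by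
                  rw [mul_inv_eq_iff_eq_mul, mul_assoc, r3, inv_mul_cancel_left]
                rw [r8]
              _ = l * l' * l⁻¹ * l'⁻¹ * (c * c') * c⁻¹ * c'⁻¹ := by group
              _ = l * l' * l⁻¹ * l'⁻¹ := by rw [q3]; group
      rw [mul_inv_eq_iff_eq_mul] at key
      exact key.symm
  intro l hl
  have h9 := (Subgroup.mem_inf.1 (hM hl)).2
  rw [mem_centralizer_singleton_iff] at h9
  exact h9.symm

theorem exists_tau [hn : L.Normal] (perf : ⁅L, L⁆ = L) (iso : Spor.IsoM22 (L ⧸ center L)) :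
    ∃ τ : H →* Equiv.Perm GolayPt, (∀ h, τ h ∈ D22) ∧ (∀ h, τ h = 1 ↔ ∀ l ∈ L, h * l = l * h) ∧
      (∀ l ∈ L, τ l ∈ Spor.M22) ∧ ∀ m ∈ Spor.M22, ∃ l ∈ L, τ l = m := by
  obtain ⟨ι, hin, hr, hc⟩ := KFacts.MM.OutAut.exists_iota iso
  have hconj : ∀ l : L, κ L (MulAut.conjNormal (l : H)) = MulAut.conj (l : L ⧸ center L) := by
    intro l
    apply MulEquiv.ext
    intro x
    induction x using QuotientGroup.induction_on with
    | H x =>
      rw [κ_apply, MulAut.conj_apply, ← QuotientGroup.mk_mul, ← QuotientGroup.mk_inv,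
        ← QuotientGroup.mk_mul]
      congr 1
  refine ⟨ι.comp ((κ L).comp (MulAut.conjNormal : H →* MulAut L)), ?_, ?_, ?_, ?_⟩
  · intro h
    rw [← hr]
    exact ⟨_, rfl⟩
  · intro h
    constructor
    · intro h1
      exact comm_of_quot perf (hin (h1.trans (map_one ι).symm))
    · intro h1
      have h2 : κ L (MulAut.conjNormal h) = 1 := by
        have h3 : (MulAut.conjNormal h : MulAut L) = 1 := by
          apply MulEquiv.ext
          intro x
          apply Subtype.ext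
          rw [MulAut.conjNormal_apply, h1 x x.2, mul_inv_cancel_right]
          rfl
        rw [h3, map_one]
      show ι (κ L (MulAut.conjNormal h)) = 1
      rw [h2, map_one]
  · intro l hl
    have h1 : κ L (MulAut.conjNormal l) ∈ (Spor.M22).comap ι := by
      rw [hc]
      exact ⟨_, (hconj ⟨l, hl⟩).symm⟩
    exact h1
  · intro m hm
    have h1 : m ∈ ι.range := by
      rw [hr]
      exact M22_le_D22 hm
    obtain ⟨β, rfl⟩ := h1
    have h2 : β ∈ (MulAut.conj : (L ⧸ center L) →* MulAut (L ⧸ center L)).range := by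
      rw [← hc]
      exact hm
    obtain ⟨x, rfl⟩ := h2
    induction x using QuotientGroup.induction_on with
    | H x =>
      refine ⟨x, x.2, ?_⟩
      show ι (κ L (MulAut.conjNormal (x : H))) = _
      rw [hconj]

end

end Cfsg.Agent.Omega.EH3.M22.Tau

end

section


/-!
# EH3, row `M22`: `w = 6`, `L` is irreducible on `V`, `|C_H(L)| = 1` or 3 (helper969)
-/

set_option autoImplicit false

namespace Cfsg.Agent.Omega.EH3.M22.Cen

open Cfsg Subgroup
open Cfsg.Agent.J4Type.Aut22 (D22 mem_D22_iff M22_le_D22)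
open Cfsg.Agent.OddHalf.MM (El)
open Cfsg.Agent.Omega.EH3.M22.Irr

variable {H V : Type*} [Group H] [AddCommGroup V] [DistribMulAction H V] {f : V → V → ZMod 2}
  {A L : Subgroup H} {a : V} {w : ℕ}

theorem w_eq (I : Inp f A L a w) : w = 6 := by
  have := I.nL
  obtain ⟨τ, hD, hk, -, -⟩ := Tau.exists_tau I.perf I.iso
  have hE : A.map τ ≤ D22 := by
    rintro _ ⟨x, -, rfl⟩
    exact hD x
  have hel : El (A.map τ) := by
    rintro _ ⟨x, hx, rfl⟩
    rw [← map_mul, I.elA x hx, map_one]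
  have hcard : Nat.card (A.map τ) = Nat.card A := by
    symm
    apply Nat.card_congr
    refine Equiv.ofBijective (fun x : A => (⟨τ x, x, x.2, rfl⟩ : A.map τ)) ⟨?_, ?_⟩
    · intro x y hxy
      have h1 : τ x = τ y := congrArg Subtype.val hxy
      have h2 : τ ((x : H)⁻¹ * y) = 1 := by
        rw [map_mul, map_inv, h1, inv_mul_cancel]
      have h3 := I.AL _ (mul_mem (inv_mem x.2) y.2) ((hk _).1 h2)
      exact Subtype.ext (inv_mul_eq_one.1 h3)
    · rintro ⟨_, x, hx, rfl⟩
      exact ⟨⟨x, hx⟩, rfl⟩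
  have h1 := Sub32.card_le_32 hE hel
  rw [hcard, I.cardA] at h1
  have h2 := I.hw
  by_contra hne
  have h3 : 2 ^ 6 ≤ 2 ^ (w - 1) := Nat.pow_le_pow_right (by norm_num) (by omega)
  norm_num at h3
  omega

theorem cardV12 (I : Inp f A L a w) : Nat.card V = 2 ^ 12 := by
  rw [I.cardV, w_eq I]

/-- an element of `L` acting trivially on a nonzero `L`-invariant subgroup is central -/
theorem nontriv (I : Inp f A L a w) {ρ : H} (hρ : ρ ∈ L) (hc : ∃ l ∈ L, ρ * l ≠ l * ρ)
    {U : AddSubgroup V} (hU : ∀ l ∈ L, ∀ u ∈ U, l • u ∈ U) (h0 : ∃ u ∈ U, u ≠ 0) :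
    ∃ u ∈ U, ρ • u ≠ u := by
  by_contra hcon
  push Not at hcon
  have hn := I.nL
  let M : Subgroup H :=
    { carrier := {l | l ∈ L ∧ ∀ u ∈ U, l • u = u}
      one_mem' := ⟨one_mem L, fun u _ => one_smul H u⟩
      mul_mem' := fun {x y} hx hy => ⟨mul_mem hx.1 hy.1, fun u hu => by
        rw [mul_smul, hy.2 u hu, hx.2 u hu]⟩
      inv_mem' := fun {x} hx => ⟨inv_mem hx.1, fun u hu => by
        rw [inv_smul_eq_iff, hx.2 u hu]⟩ }
  have hM : M = L := by
    apply eq_of_normal I.perf I.iso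
    · exact fun x hx => hx.1
    · intro l hl m hm
      refine ⟨mul_mem (mul_mem hl hm.1) (inv_mem hl), fun u hu => ?_⟩
      rw [mul_smul, mul_smul, hm.2 _ (hU _ (inv_mem hl) u hu), smul_inv_smul]
    · obtain ⟨l, hl, hne⟩ := hc
      exact ⟨ρ, ⟨hρ, hcon⟩, l, hl, hne⟩
  let C : AddSubgroup V :=
    { carrier := {v | ∀ l ∈ L, l • v = v}
      zero_mem' := fun l _ => smul_zero l
      add_mem' := fun {x y} hx hy l hl => by rw [smul_add, hx l hl, hy l hl]
      neg_mem' := fun {x} hx l hl => by rw [smul_neg, hx l hl] }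
  have hC := I.irr C (by
    intro h u hu l hl
    have h1 : h⁻¹ * l * h ∈ L := by
      have := hn.conj_mem l hl h⁻¹
      rwa [inv_inv] at this
    have h2 := hu _ h1
    rw [mul_smul, mul_smul, inv_smul_eq_iff] at h2
    exact h2) (by
    obtain ⟨u, hu, hne⟩ := h0
    refine ⟨u, fun l hl => ?_, hne⟩
    rw [← hM] at hl
    exact hl.2 u hu)
  obtain ⟨l, hl, hne⟩ := hc
  apply hne
  have h1 : l = 1 := I.faith l fun v => hC v l hl
  rw [h1, mul_one, one_mul]

variable [Finite V]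

/-- the data of an element of order a power of 11 -/
theorem rho_card (I : Inp f A L a w) {ρ : H} {k : ℕ} (hρ : ρ ∈ L) (hc : ∃ l ∈ L, ρ * l ≠ l * ρ)
    (hk : ρ ^ 11 ^ k = 1) :
    Nat.card ((⊤ : AddSubgroup V) ⊓ (del ρ : V →+ V).ker : AddSubgroup V) = 4 ∧
      Nat.card ((⊤ : AddSubgroup V).map (del ρ)) = 2 ^ 10 := by
  have h1 := count (U := (⊤ : AddSubgroup V)) hk (fun u _ => AddSubgroup.mem_top _)
  have h2 := card_map_del (V := V) ρ ⊤
  have hV : Nat.card (⊤ : AddSubgroup V) = 2 ^ 12 := by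
    rw [← cardV12 I]
    exact Nat.card_congr (AddSubgroup.topEquiv (G := V)).toEquiv
  rw [hV] at h1 h2
  obtain ⟨j, hj, ej⟩ := pow_two_of_dvd (n := Nat.card ((⊤ : AddSubgroup V) ⊓ (del ρ : V →+ V).ker :
    AddSubgroup V)) (m := 12) (by rw [h2]; exact Dvd.intro_left _ rfl)
  rw [ej] at h1 h2 ⊢
  have hlt : j ≠ 12 := by
    rintro rfl
    obtain ⟨u, -, hu⟩ := nontriv I hρ hc (U := ⊤) (fun _ _ _ _ => AddSubgroup.mem_top _)
      ⟨a, AddSubgroup.mem_top _, I.a0⟩
    have h3 : ((⊤ : AddSubgroup V) ⊓ (del ρ : V →+ V).ker : AddSubgroup V) = ⊤ := by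
      apply AddSubgroup.eq_of_le_of_card_ge le_top
      rw [hV, ej]
    have h4 : u ∈ ((⊤ : AddSubgroup V) ⊓ (del ρ : V →+ V).ker : AddSubgroup V) := by
      rw [h3]
      exact AddSubgroup.mem_top _
    have h5 : ρ • u - u = 0 := h4.2
    exact hu (sub_eq_zero.1 h5)
  have h10 := ten_le (by omega : j < 12) h1
  have hj2 : j = 2 := by
    have h6 : ∀ j < 3, 2 ^ 12 ≡ 2 ^ j [MOD 11] → j = 2 := by decide
    exact h6 j (by omega) h1
  rw [hj2] at h2 ⊢
  refine ⟨by norm_num, ?_⟩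
  omega

/-- `L` is irreducible on `V` -/
theorem irrL [Finite H] (I : Inp f A L a w) (U : AddSubgroup V) (hU : ∀ l ∈ L, ∀ u ∈ U, l • u ∈ U)
    (h0 : ∃ u ∈ U, u ≠ 0) : ∀ v, v ∈ U := by
  have hn := I.nL
  obtain ⟨ρ, hρ, hc, k, hk⟩ := exists_rho I.iso
  obtain ⟨-, h10⟩ := rho_card I hρ hc hk
  -- `[V, ρ] ≤ U`
  have hδ : ∀ v, ρ • v - v ∈ U := by
    have h1 := count hk (hU ρ hρ)
    have h2 := card_map_del ρ U
    obtain ⟨i, hi, ei⟩ := pow_two_of_dvd (n := Nat.card U) (m := 12) (by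
      rw [← cardV12 I]
      exact AddSubgroup.card_addSubgroup_dvd_card U)
    rw [ei] at h1 h2
    obtain ⟨j, hj, ej⟩ := pow_two_of_dvd (n := Nat.card (U ⊓ (del ρ : V →+ V).ker : AddSubgroup V))
      (m := i) (by rw [h2]; exact Dvd.intro_left _ rfl)
    rw [ej] at h1 h2
    have hlt : j ≠ i := by
      rintro rfl
      obtain ⟨u, hu1, hu⟩ := nontriv I hρ hc hU h0
      have h3 : (U ⊓ (del ρ : V →+ V).ker : AddSubgroup V) = U := by
        apply AddSubgroup.eq_of_le_of_card_ge inf_le_left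
        rw [ei, ej]
      rw [← h3] at hu1
      have h5 : ρ • u - u = 0 := hu1.2
      exact hu (sub_eq_zero.1 h5)
    have h11 := ten_le (by omega : j < i) h1
    have h12 : 2 ^ 10 ≤ Nat.card (U.map (del ρ)) := by
      obtain ⟨d, rfl⟩ := Nat.exists_eq_add_of_le h11
      rw [pow_add, pow_add, mul_assoc, mul_comm (Nat.card _)] at h2
      have h13 := Nat.eq_of_mul_eq_mul_left (by positivity) h2
      rw [← h13]
      exact Nat.le_mul_of_pos_right _ (by positivity)
    have h14 : U.map (del ρ) = (⊤ : AddSubgroup V).map (del ρ) := by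
      apply AddSubgroup.eq_of_le_of_card_ge (AddSubgroup.map_mono le_top)
      rw [h10]
      exact h12
    intro v
    have h15 : del ρ v ∈ (⊤ : AddSubgroup V).map (del ρ) := ⟨v, AddSubgroup.mem_top _, rfl⟩
    rw [← h14] at h15
    obtain ⟨u, hu, e⟩ := h15
    have e' : ρ • u - u = ρ • v - v := e
    rw [← e']
    exact sub_mem (hU ρ hρ u hu) hu
  -- all of `L`
  let M : Subgroup H :=
    { carrier := {l | l ∈ L ∧ ∀ v, l • v - v ∈ U}
      one_mem' := ⟨one_mem L, fun v => by rw [one_smul, sub_self]; exact U.zero_mem⟩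
      mul_mem' := fun {x y} hx hy => ⟨mul_mem hx.1 hy.1, fun v => by
        have e : (x * y) • v - v = x • (y • v - v) + (x • v - v) := by
          rw [mul_smul, smul_sub]; abel
        rw [e]
        exact U.add_mem (hU x hx.1 _ (hy.2 v)) (hx.2 v)⟩
      inv_mem' := fun {x} hx => ⟨inv_mem hx.1, fun v => by
        have e : x⁻¹ • v - v = -(x • (x⁻¹ • v) - x⁻¹ • v) := by
          rw [smul_inv_smul]; abel
        rw [e]
        exact U.neg_mem (hx.2 _)⟩ }
  have hM : M = L := by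
    apply eq_of_normal I.perf I.iso
    · exact fun x hx => hx.1
    · intro l hl m hm
      refine ⟨mul_mem (mul_mem hl hm.1) (inv_mem hl), fun v => ?_⟩
      have e : (l * m * l⁻¹) • v - v = l • (m • (l⁻¹ • v) - l⁻¹ • v) := by
        rw [smul_sub, mul_smul, mul_smul, smul_inv_smul]
      rw [e]
      exact hU l hl _ (hm.2 _)
    · obtain ⟨l, hl, hne⟩ := hc
      exact ⟨ρ, ⟨hρ, hδ⟩, l, hl, hne⟩
  let D : AddSubgroup V := AddSubgroup.closure {x | ∃ l ∈ L, ∃ v : V, x = l • v - v}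
  have hDU : D ≤ U := by
    rw [AddSubgroup.closure_le]
    rintro x ⟨l, hl, v, rfl⟩
    rw [← hM] at hl
    exact hl.2 v
  have hD := I.irr D (by
    intro h
    have h1 : D ≤ D.comap (DistribSMul.toAddMonoidHom V h) := by
      rw [AddSubgroup.closure_le]
      rintro x ⟨l, hl, v, rfl⟩
      show h • (l • v - v) ∈ D
      apply AddSubgroup.subset_closure
      refine ⟨h * l * h⁻¹, hn.conj_mem l hl h, h • v, ?_⟩
      rw [smul_sub, mul_smul, mul_smul, inv_smul_smul]
    intro u hu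
    exact h1 hu) (by
    obtain ⟨u, -, hu⟩ := nontriv I hρ hc (U := ⊤) (fun _ _ _ _ => AddSubgroup.mem_top _)
      ⟨a, AddSubgroup.mem_top _, I.a0⟩
    exact ⟨ρ • u - u, AddSubgroup.subset_closure ⟨ρ, hρ, u, rfl⟩, fun e => hu (sub_eq_zero.1 e)⟩)
  exact fun v => hDU (hD v)

/-- an element of `C_H(L)` fixing a nonzero vector is trivial -/
theorem semi_C [Finite H] (I : Inp f A L a w) {x : H} (hx : ∀ l ∈ L, x * l = l * x) {v : V}
    (hv : v ≠ 0) (h : x • v = v) : x = 1 := by
  let U : AddSubgroup V :=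
    { carrier := {v | x • v = v}
      zero_mem' := smul_zero x
      add_mem' := fun {u v} (hu : x • u = u) (hv : x • v = v) => by
        show x • (u + v) = u + v
        rw [smul_add, hu, hv]
      neg_mem' := fun {u} (hu : x • u = u) => by
        show x • (-u) = -u
        rw [smul_neg, hu] }
  have h1 := irrL I U (by
    intro l hl u hu
    show x • l • u = l • u
    have hu' : x • u = u := hu
    rw [← mul_smul, hx l hl, mul_smul, hu']) ⟨v, h, hv⟩
  exact I.faith x h1

/-- `|C_H(L)| = 1` or 3 -/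
theorem card_C [Finite H] (I : Inp f A L a w) :
    Nat.card (centralizer (L : Set H)) = 1 ∨ Nat.card (centralizer (L : Set H)) = 3 := by
  obtain ⟨ρ, hρ, hc, k, hk⟩ := exists_rho I.iso
  obtain ⟨h4, -⟩ := rho_card I hρ hc hk
  have hcomm : ∀ x : centralizer (L : Set H), ∀ l ∈ L, (x : H) * l = l * x := fun x l hl =>
    (mem_centralizer_iff.1 x.2 l hl).symm
  set K4 : AddSubgroup V := (⊤ : AddSubgroup V) ⊓ (del ρ : V →+ V).ker with hK4
  -- a nonzero fixed vector
  obtain ⟨v0, hv0, hne⟩ : ∃ v0 ∈ K4, v0 ≠ 0 := by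
    by_contra hcon
    push Not at hcon
    have h1 : K4 = ⊥ := by
      rw [eq_bot_iff]
      intro v hv
      exact AddSubgroup.mem_bot.2 (hcon v hv)
    rw [h1, AddSubgroup.card_bot] at h4
    omega
  have hfix : ∀ x : centralizer (L : Set H), (x : H) • v0 ∈ K4 := by
    intro x
    refine ⟨AddSubgroup.mem_top _, ?_⟩
    show ρ • (x : H) • v0 - (x : H) • v0 = 0
    have h1 : ρ • v0 - v0 = 0 := hv0.2
    rw [← mul_smul, ← hcomm x ρ hρ, mul_smul, sub_eq_zero.1 h1, sub_self]
  have hinj : Function.Injective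
      (fun x : centralizer (L : Set H) => (⟨⟨(x : H) • v0, hfix x⟩, fun e => hne (by
        have e' : (x : H) • v0 = 0 := congrArg Subtype.val e
        exact (smul_eq_zero_iff_eq _).1 e')⟩ : {y : K4 // y ≠ 0})) := by
    intro x y hxy
    have h1 : (x : H) • v0 = (y : H) • v0 := congrArg (fun t : {y : K4 // y ≠ 0} => ((t : K4) : V)) hxy
    have h2 : ((x : H)⁻¹ * y) • v0 = v0 := by
      rw [mul_smul, ← h1, inv_smul_smul]
    have h3 := semi_C I (x := (x : H)⁻¹ * y) (fun l hl => by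
      have k1 := hcomm (x⁻¹ * y) l hl
      exact k1) hne h2
    exact Subtype.ext (inv_mul_eq_one.1 h3)
  have hle : Nat.card (centralizer (L : Set H)) ≤ 3 := by
    have h1 := Nat.card_le_card_of_injective _ hinj
    have h2 : Nat.card {y : K4 // y ≠ 0} = 3 := by
      have := Fintype.ofFinite K4
      classical
      rw [Nat.card_eq_fintype_card, Fintype.card_subtype_compl, Fintype.card_subtype_eq,
        ← Nat.card_eq_fintype_card, h4]
    omega
  have hpos : 0 < Nat.card (centralizer (L : Set H)) := Nat.card_pos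
  have h2 : Nat.card (centralizer (L : Set H)) ≠ 2 := by
    intro h2
    have : Fact (Nat.Prime 2) := ⟨Nat.prime_two⟩
    obtain ⟨x, hx⟩ := exists_prime_orderOf_dvd_card' 2 (G := centralizer (L : Set H)) (by rw [h2])
    have hxx : (x : H) * x = 1 := by
      have h3 : x ^ 2 = 1 := by rw [← hx]; exact pow_orderOf_eq_one x
      rw [pow_two] at h3
      exact congrArg Subtype.val h3
    have hx1 : (x : H) ≠ 1 := by
      intro e
      have e' : x = 1 := Subtype.ext e
      rw [e', orderOf_one] at hx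
      omega
    apply hx1
    by_cases hs : v0 + (x : H) • v0 = 0
    · apply semi_C I (hcomm x) hne
      have h3 : (x : H) • v0 = -v0 := by
        rw [eq_neg_iff_add_eq_zero, add_comm]
        exact hs
      rw [h3, neg_eq_iff_add_eq_zero]
      exact I.two v0
    · apply semi_C I (hcomm x) hs
      rw [smul_add, ← mul_smul, hxx, one_smul, add_comm]
  omega

end Cfsg.Agent.Omega.EH3.M22.Cen

end

section


/-!
# EH3, row `M22` (helper969)

`row` : in the abstract main case, if `L` is normal in `H`, perfect, `L / Z(L) ≅ M22`, then `w = 6`,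
`|Z(L)| = 3` and `C_H(L) ≤ L`.
-/

set_option autoImplicit false

namespace Cfsg.Agent.Omega.EH3.M22.Row

open Cfsg Subgroup
open Cfsg.Agent.KFacts.MM.Sub Cfsg.Agent.KFacts.MM.OutP
open Cfsg.Agent.J4Type.Aut22 (D22 mem_D22_iff M22_le_D22)
open Cfsg.Agent.OddHalf.MM (El Nrm)
open Cfsg.Agent.Omega.EH3.M22.Irr Cfsg.Agent.Omega.EH3.M22.Cen
open Cfsg.Agent.Omega.EH3.M22.Perm Cfsg.Agent.Omega.EH3.M22.Gram

variable {H V : Type*} [Group H] [AddCommGroup V] [DistribMulAction H V] {f : V → V → ZMod 2}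
  {A L : Subgroup H} {a : V} {w : ℕ}

/-- the homomorphism to `D22` normalised by `σ(A) = P` -/
theorem exists_sigma (I : Inp f A L a w) :
    ∃ σ : H →* Equiv.Perm GolayPt, (∀ h, σ h ∈ D22) ∧ (∀ h, σ h = 1 ↔ ∀ l ∈ L, h * l = l * h) ∧
      (∀ l ∈ L, σ l ∈ Spor.M22) ∧ (∀ m ∈ Spor.M22, ∃ l ∈ L, σ l = m) ∧ (∀ x ∈ A, σ x ∈ P) ∧
      ∀ p ∈ P, ∃ x ∈ A, σ x = p := by
  have hn := I.nL
  obtain ⟨τ, hD, hk, hL, hs⟩ := Tau.exists_tau I.perf I.iso
  have hE : A.map τ ≤ D22 := by
    rintro _ ⟨x, -, rfl⟩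
    exact hD x
  have hel : El (A.map τ) := by
    rintro _ ⟨x, hx, rfl⟩
    rw [← map_mul, I.elA x hx, map_one]
  have hcard : Nat.card (A.map τ) = Nat.card A := by
    symm
    apply Nat.card_congr
    refine Equiv.ofBijective (fun x : A => (⟨τ x, x, x.2, rfl⟩ : A.map τ)) ⟨?_, ?_⟩
    · intro x y hxy
      have h1 : τ x = τ y := congrArg Subtype.val hxy
      have h2 : τ ((x : H)⁻¹ * y) = 1 := by
        rw [map_mul, map_inv, h1, inv_mul_cancel]
      have h3 := I.AL _ (mul_mem (inv_mem x.2) y.2) ((hk _).1 h2)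
      exact Subtype.ext (inv_mul_eq_one.1 h3)
    · rintro ⟨_, x, hx, rfl⟩
      exact ⟨⟨x, hx⟩, rfl⟩
  obtain ⟨g, hg, hgE⟩ := Sub32.exists_conj_P hE hel (by
    rw [hcard, I.cardA, w_eq I]
    norm_num)
  refine ⟨(MulAut.conj g).toMonoidHom.comp τ, ?_, ?_, ?_, ?_, ?_, ?_⟩
  · intro h
    exact mul_mem (mul_mem hg (hD h)) (inv_mem hg)
  · intro h
    rw [← hk]
    constructor
    · intro e
      have e' : g * τ h * g⁻¹ = 1 := e
      rw [mul_inv_eq_one] at e'
      exact mul_eq_left.1 e'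
    · intro e
      show g * τ h * g⁻¹ = 1
      rw [e, mul_one, mul_inv_cancel]
  · intro l hl
    exact KFacts.MM.OutAut.conj_mem22 hg (hL l hl)
  · intro m hm
    have h1 := KFacts.MM.OutAut.conj_mem22 (inv_mem hg) hm
    rw [inv_inv] at h1
    obtain ⟨l, hl, e⟩ := hs _ h1
    refine ⟨l, hl, ?_⟩
    show g * τ l * g⁻¹ = m
    rw [e]
    group
  · intro x hx
    exact (hgE (τ x)).1 ⟨x, hx, rfl⟩
  · intro p hp
    have h1 : g⁻¹ * p * g ∈ A.map τ := by
      rw [hgE]
      have e : g * (g⁻¹ * p * g) * g⁻¹ = p := by group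
      rw [e]
      exact hp
    obtain ⟨x, hx, e⟩ := h1
    refine ⟨x, hx, ?_⟩
    show g * τ x * g⁻¹ = p
    rw [e]
    group

/-- `L` is not isomorphic to `M22` -/
theorem no_M22 [Finite H] [Finite V] (I : Inp f A L a w)
    (hZ : ∀ l ∈ L, (∀ l' ∈ L, l * l' = l' * l) → l = 1) : False := by
  have hn := I.nL
  obtain ⟨σ, hD, hk, hL, hs, hA, hP⟩ := exists_sigma I
  have hs' : ∀ m, m ∈ Spor.M22 → ∃ l, l ∈ L ∧ σ l = m := fun m hm => by
    obtain ⟨l, hl, e⟩ := hs m hm
    exact ⟨l, hl, e⟩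
  choose! s hsL using hs'
  have inj : ∀ x ∈ L, ∀ y ∈ L, σ x = σ y → x = y := by
    intro x hx y hy e
    have h1 : σ (x⁻¹ * y) = 1 := by
      rw [map_mul, map_inv, e, inv_mul_cancel]
    exact inv_mul_eq_one.1 (hZ _ (mul_mem (inv_mem hx) hy) ((hk _).1 h1))
  have smul' : ∀ x ∈ Spor.M22, ∀ y ∈ Spor.M22, s (x * y) = s x * s y := by
    intro x hx y hy
    apply inj _ (hsL _ (mul_mem hx hy)).1 _ (mul_mem (hsL x hx).1 (hsL y hy).1)
    rw [map_mul, (hsL _ (mul_mem hx hy)).2, (hsL x hx).2, (hsL y hy).2]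
  have sinv : ∀ x ∈ Spor.M22, s x⁻¹ = (s x)⁻¹ := by
    intro x hx
    apply inj _ (hsL _ (inv_mem hx)).1 _ (inv_mem (hsL x hx).1)
    rw [map_inv, (hsL _ (inv_mem hx)).2, (hsL x hx).2]
  have sσ : ∀ l ∈ L, s (σ l) = l := by
    intro l hl
    exact inj _ (hsL _ (hL l hl)).1 _ hl (hsL _ (hL l hl)).2
  -- elements of order at most two of `C_H(L)`
  have hC : ∀ c : H, (∀ l ∈ L, c * l = l * c) → c * c = 1 → c = 1 := by
    intro c hc h2
    have hm : c ∈ centralizer (L : Set H) := mem_centralizer_iff.2 fun l hl => (hc l hl).symm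
    have h3 : (⟨c, hm⟩ : centralizer (L : Set H)) ^ 2 = 1 := by
      apply Subtype.ext
      show c ^ 2 = 1
      rw [pow_two, h2]
    have h4 := orderOf_dvd_of_pow_eq_one h3
    have h5 := orderOf_dvd_natCard (⟨c, hm⟩ : centralizer (L : Set H))
    have h6 : orderOf (⟨c, hm⟩ : centralizer (L : Set H)) = 1 := by
      rcases card_C I with h7 | h7
      · rw [h7] at h5
        exact Nat.dvd_one.1 h5
      · rw [h7] at h5
        have := Nat.dvd_gcd h4 h5
        exact Nat.dvd_one.1 this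
    rw [orderOf_eq_one_iff] at h6
    exact congrArg Subtype.val h6
  -- `s(W) ≤ A`
  have sW : ∀ x ∈ W, s x ∈ A := by
    intro x hx
    have hxM : x ∈ Spor.M22 := KFacts.MM.Cent.W_le22 hx
    obtain ⟨x', hx', e⟩ := hP x (W_le_P hx)
    have h1 : σ ((s x)⁻¹ * x') = 1 := by
      rw [map_mul, map_inv, e, (hsL x hxM).2, inv_mul_cancel]
    have h2 := (hk _).1 h1
    have h3 : s x * s x = 1 := by
      rw [← smul' x hxM x hxM, elW x hx]
      apply inj _ (hsL _ (one_mem _)).1 _ (one_mem L)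
      rw [(hsL _ (one_mem _)).2, map_one]
    have h3' : (s x)⁻¹ = s x := inv_eq_of_mul_eq_one_left h3
    have h4 : (s x)⁻¹ * x' = 1 := by
      apply hC _ h2
      have h5 := h2 (s x) (hsL x hxM).1
      rw [h3'] at h5 ⊢
      calc s x * x' * (s x * x') = (s x * x' * s x) * x' := by group
        _ = s x * (s x * x') * x' := by rw [h5]
        _ = (s x * s x) * (x' * x') := by group
        _ = 1 := by rw [h3, I.elA x' hx', one_mul]
    rw [inv_mul_eq_one.1 h4]
    exact hx'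
  -- `N(W)` fixes `a`
  have nA : ∀ n ∈ Spor.M22, Nrm n W → s n • a = a := by
    intro n hn' hN
    have h1 : ∀ x ∈ A, (s n)⁻¹ * x * s n ∈ A := by
      intro x hx
      set l : H := (s n)⁻¹ * (x * s n * x⁻¹) with hl
      have hlL : l ∈ L := mul_mem (inv_mem (hsL n hn').1) (hn.conj_mem _ (hsL n hn').1 x)
      have e1 : (s n)⁻¹ * x * s n = l * x := by rw [hl]; group
      have hNP : Nrm n P := (nrm_P_iff (M22_le_D22 hn')).2 hN
      have h2 : σ l ∈ P := by
        have e2 : l = (s n)⁻¹ * x * s n * x⁻¹ := by rw [hl]; group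
        rw [e2, map_mul, map_mul, map_mul, map_inv, map_inv, (hsL n hn').2]
        exact mul_mem (KFacts.MM.Cent.nrm_inv hNP (hA x hx)) (inv_mem (hA x hx))
      have h3 : σ l ∈ W := PK h2 (hL l hlL)
      have h4 := sW _ h3
      rw [sσ l hlL] at h4
      rw [e1]
      exact mul_mem h4 hx
    rcases I.CA (s n • a) (by
      intro x hx
      have h2 := I.aA _ (h1 x hx)
      rw [mul_smul, mul_smul, inv_smul_eq_iff] at h2
      exact h2) with h | h
    · exfalso
      exact I.a0 ((smul_eq_zero_iff_eq _).1 h)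
    · exact h
  let F : Equiv.Perm GolayPt → ZMod 2 := fun g => f a (s g • a)
  have h01 : ∀ x : ZMod 2, x = 0 ∨ x = 1 := by decide
  have F_dbl : ∀ y ∈ Spor.M22, Nrm y W → ∀ m ∈ Spor.M22, Nrm m W → ∀ g ∈ Spor.M22,
      F (y * g * m) = F g := by
    intro y hy hyN m hm hmN g hg
    show f a (s (y * g * m) • a) = f a (s g • a)
    rw [smul' _ (mul_mem hy hg) m hm, smul' y hy g hg, mul_smul, mul_smul, nA m hm hmN]
    conv_lhs => rw [← nA y hy hyN]
    rw [nA y hy hyN]
    have h1 := I.finv (s y) a (s g • a)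
    rw [nA y hy hyN] at h1
    exact h1
  have F_c : ∀ g ∈ Spor.M22, F g = 1 → c160 g := by
    intro g hg h
    by_contra hcon
    obtain ⟨x, hx, hx1, hN⟩ := of_not_c160 hg hcon
    have hxM : x ∈ Spor.M22 := KFacts.MM.Cent.W_le22 hx
    have h1 := nA _ (mul_mem (mul_mem (inv_mem hg) hxM) hg) hN
    rw [smul' _ (mul_mem (inv_mem hg) hxM) g hg, smul' _ (inv_mem hg) x hxM, sinv g hg, mul_smul,
      mul_smul, inv_smul_eq_iff] at h1
    have h2 := I.semi _ h (s x) (sW x hx) h1
    apply hx1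
    rw [← (hsL x hxM).2, h2, map_one]
  have F_ex : ∃ g ∈ Spor.M22, F g = 1 := by
    by_contra hcon
    push Not at hcon
    let K : AddSubgroup V :=
      { carrier := {v | f a v = 0}
        zero_mem' := by
          show f a 0 = 0
          have h1 := I.fadd a 0 0
          rw [add_zero] at h1
          exact left_eq_add.1 h1
        add_mem' := fun {u v} (hu : f a u = 0) (hv : f a v = 0) => by
          show f a (u + v) = 0
          rw [I.fadd, hu, hv, add_zero]
        neg_mem' := fun {u} (hu : f a u = 0) => by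
          show f a (-u) = 0
          rw [neg_eq_iff_add_eq_zero.2 (I.two u)]
          exact hu }
    let U : AddSubgroup V := AddSubgroup.closure {x | ∃ l ∈ L, x = l • a}
    have hUK : U ≤ K := by
      rw [AddSubgroup.closure_le]
      rintro x ⟨l, hl, rfl⟩
      show f a (l • a) = 0
      have h1 := hcon (σ l) (hL l hl)
      rcases h01 (f a (l • a)) with h2 | h2
      · exact h2
      · exfalso
        apply h1
        show f a (s (σ l) • a) = 1
        rw [sσ l hl, h2]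
    have hU := irrL I U (by
      intro l hl
      have h1 : U ≤ U.comap (DistribSMul.toAddMonoidHom V l) := by
        rw [AddSubgroup.closure_le]
        rintro x ⟨l', hl', rfl⟩
        show l • l' • a ∈ U
        apply AddSubgroup.subset_closure
        exact ⟨l * l', mul_mem hl hl', (mul_smul _ _ _).symm⟩
      intro u hu
      exact h1 hu) ⟨a, AddSubgroup.subset_closure ⟨1, one_mem L, (one_smul H a).symm⟩, I.a0⟩
    exact I.a0 (I.fnd a fun v => hUK (hU v))
  have F_g0 : F g0 = 1 := by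
    obtain ⟨g, hg, h1⟩ := F_ex
    obtain ⟨y, hy, hyN, m, hm, hmN, e⟩ := dbl hg (F_c g hg h1)
    rw [← F_dbl y hy hyN m hm hmN g0 g0_mem, ← e, h1]
  have F_1 : ∀ g ∈ Spor.M22, c160 g → F g = 1 := by
    intro g hg h1
    obtain ⟨y, hy, hyN, m, hm, hmN, e⟩ := dbl hg h1
    rw [e, F_dbl y hy hyN m hm hmN g0 g0_mem, F_g0]
  -- the Gram matrix
  have hge := card_ge f I.fadd (fun i => s (gg i) • a) (by
    intro i j
    have h1 : f (s (gg i) • a) (s (gg j) • a) = F ((gg i)⁻¹ * gg j) := by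
      show _ = f a (s ((gg i)⁻¹ * gg j) • a)
      rw [smul' _ (inv_mem (gg_mem i)) _ (gg_mem j), sinv _ (gg_mem i), mul_smul]
      have h2 := I.finv (s (gg i)) a ((s (gg i))⁻¹ • s (gg j) • a)
      rw [smul_inv_smul] at h2
      exact h2
    rw [h1]
    have hmem : (gg i)⁻¹ * gg j ∈ Spor.M22 := mul_mem (inv_mem (gg_mem i)) (gg_mem j)
    unfold Gm
    by_cases hb : (Data.gM.getD i 0).testBit j = true
    · rw [if_pos hb]
      exact F_1 _ hmem ((gram_iff i j).2 hb)
    · rw [if_neg hb]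
      rcases h01 (F ((gg i)⁻¹ * gg j)) with h2 | h2
      · exact h2
      · exact absurd ((gram_iff i j).1 (F_c _ hmem h2)) hb)
  rw [cardV12 I] at hge
  norm_num at hge

/-- **the row `M22`** -/
theorem row [Finite H] [Finite V] (I : Inp f A L a w) :
    w = 6 ∧ Nat.card (center L) = 3 ∧ ∀ h : H, (∀ l ∈ L, h * l = l * h) → h ∈ L := by
  refine ⟨w_eq I, ?_⟩
  have hle : (center L).map L.subtype ≤ centralizer (L : Set H) := by
    rintro _ ⟨c, hc, rfl⟩
    rw [mem_centralizer_iff]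
    intro l hl
    exact congrArg Subtype.val (mem_center_iff.1 hc ⟨l, hl⟩)
  have hcard : Nat.card ((center L).map L.subtype) = Nat.card (center L) :=
    card_map_of_injective L.subtype_injective
  have hne : Nat.card (center L) ≠ 1 := by
    intro h1
    apply no_M22 I
    intro l hl hc
    have h2 : (⟨l, hl⟩ : L) ∈ center L := mem_center_iff.2 fun y => Subtype.ext (hc y y.2).symm
    rw [card_eq_one.1 h1] at h2
    exact congrArg Subtype.val (mem_bot.1 h2)
  have hdvd : Nat.card (center L) ∣ Nat.card (centralizer (L : Set H)) := by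
    rw [← hcard]
    exact card_dvd_of_le hle
  have h3 : Nat.card (centralizer (L : Set H)) = 3 := by
    rcases card_C I with h | h
    · rw [h] at hdvd
      exact absurd (Nat.dvd_one.1 hdvd) hne
    · exact h
  have hZ3 : Nat.card (center L) = 3 := by
    rw [h3] at hdvd
    rcases (Nat.dvd_prime Nat.prime_three).1 hdvd with h | h
    · exact absurd h hne
    · exact h
  refine ⟨hZ3, ?_⟩
  have heq : (center L).map L.subtype = centralizer (L : Set H) := by
    apply eq_of_le_of_card_ge hle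
    rw [hcard, hZ3, h3]
  intro h hh
  have hm : h ∈ centralizer (L : Set H) := mem_centralizer_iff.2 fun l hl => (hh l hl).symm
  rw [← heq] at hm
  obtain ⟨c, -, rfl⟩ := hm
  exact c.2

end Cfsg.Agent.Omega.EH3.M22.Row

end

section


/-!
# EH3, row `M22`, from the configuration `Cfg` (helper969)

`row_cfg` : if the configuration `Cfg` of EH3 occurs with a normal odd cover `L` of `K ≅ M22` in `H`
(`X ∩ C_H(L) = 1`), then `w = 6`, `|Z(L)| = 3` and `C_H(L) ≤ L`.
-/

set_option autoImplicit false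

namespace Cfsg.Agent.Omega.EH3.M22.OfCfg

open Cfsg Subgroup
open Cfsg.Agent.Omega.EH3 Cfsg.Agent.Omega.TwoF
open Cfsg.Agent.Omega.EH3.M22.Irr

universe u v

variable {H V : Type*} [Group H] [AddCommGroup V] [Module (ZMod 2) V]
  {ρ : H →* (V ≃ₗ[ZMod 2] V)} {b : LinearMap.BilinForm (ZMod 2) V} {q : V → ZMod 2}
  {a : V} {D : Submodule (ZMod 2) V} {X : Subgroup H} {w : ℕ}

/-- the action -/
abbrev actA (ρ : H →* (V ≃ₗ[ZMod 2] V)) : DistribMulAction H V := DistribMulAction.compHom V ρ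

/-- the centre of an odd cover of a centreless group; the quotient -/
theorem quot_equiv {L : Subgroup H} {K : Type*} [Group K] {π : L →* K} (hπ : OddCover π)
    (hK : center K = ⊥) : Nonempty (L ⧸ center L ≃* K) := by
  have h1 := hπ.ker_eq hK
  exact ⟨(QuotientGroup.quotientMulEquivOfEq h1.symm).trans
    (QuotientGroup.quotientKerEquivOfSurjective π hπ.surj)⟩

/-- the input of the abstract row -/
theorem inp_of_cfg (C : Cfg ρ b q a D X w) {L : Subgroup H} (hL : L.Normal) (hp : ⁅L, L⁆ = L)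
    (hi : Spor.IsoM22 (L ⧸ center L)) (hX : X ⊓ centralizer (L : Set H) = ⊥) :
    @Inp H V _ _ (actA ρ) (fun u v => b u v) X L a w := by
  let := actA ρ
  have hsm : ∀ (h : H) (v : V), h • v = ρ h v := fun _ _ => rfl
  refine
    { two := C.add_self
      faith := fun h hh => C.ext (fun v => by rw [C.ρ_one]; exact hh v)
      irr := ?_
      fadd := fun u v v' => map_add _ _ _
      finv := fun h u v => C.b_inv h u v
      fnd := C.nondeg
      hw := C.six
      cardV := C.card_V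
      elA := C.X_sq
      cardA := C.card_X
      a0 := C.a_ne
      aA := fun x hx => C.X_a hx
      CA := fun v hv => C.fixed_X hv
      semi := ?_
      nL := hL
      perf := hp
      iso := hi
      AL := ?_ }
  · intro U hU hne v
    let W : Submodule (ZMod 2) V :=
      { carrier := U
        zero_mem' := U.zero_mem
        add_mem' := fun hx hy => U.add_mem hx hy
        smul_mem' := fun c x hx => by
          rcases zmod_two c with h | h
          · rw [h, zero_smul]; exact U.zero_mem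
          · rw [h, one_smul]; exact hx }
    rcases C.irr W (fun h v hv => hU h v hv) with h | h
    · exfalso
      obtain ⟨u, hu, hu0⟩ := hne
      have h1 : u ∈ W := hu
      rw [h, Submodule.mem_bot] at h1
      exact hu0 h1
    · have h1 : v ∈ W := by rw [h]; trivial
      exact h1
  · intro v hv x hx hxv
    apply C.X_semi x hx v hv
    rw [show ρ x v = v from hxv, C.add_self]
    exact D.zero_mem
  · intro x hx hc
    have h1 : x ∈ X ⊓ centralizer (L : Set H) :=
      ⟨hx, mem_centralizer_iff.2 fun l hl => (hc l hl).symm⟩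
    rw [hX] at h1
    exact mem_bot.1 h1

/-- **the row `M22` from `Cfg`** -/
theorem row_cfg' (C : Cfg ρ b q a D X w) {L : Subgroup H} (hL : L.Normal) (hp : ⁅L, L⁆ = L)
    (hi : Spor.IsoM22 (L ⧸ center L)) (hX : X ⊓ centralizer (L : Set H) = ⊥) :
    w = 6 ∧ Nat.card (center L) = 3 ∧ ∀ h : H, (∀ l ∈ L, h * l = l * h) → h ∈ L := by
  have := C.finite_H
  have := C.finite_V
  exact @Row.row H V _ _ (actA ρ) _ X L a w _ _ (inp_of_cfg C hL hp hi hX)

/-- **the row `M22` from `Cfg`, with an odd cover** -/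
theorem row_cfg {K : Type*} [Group K] (hK : Spor.IsoM22 K) (C : Cfg ρ b q a D X w) {L : Subgroup H}
    {π : L →* K} (hL : L.Normal) (hπ : OddCover π) (hX : X ⊓ centralizer (L : Set H) = ⊥) :
    w = 6 ∧ Nat.card (center L) = 3 ∧ Spor.IsoM22 (L ⧸ center L) ∧
      ∀ h : H, (∀ l ∈ L, h * l = l * h) → h ∈ L := by
  obtain ⟨e⟩ := hK
  have hsK : IsSimpleGroup K :=
    have := SporadicA.MathieuRecog.simple_M22
    e.isSimpleGroup
  have hcK : center K = ⊥ := by
    rcases hsK.eq_bot_or_eq_top_of_normal (center K) inferInstance with h | h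
    · exact h
    · exfalso
      have hc : ∀ x y : K, x * y = y * x := fun x y => by
        have : x ∈ center K := by rw [h]; trivial
        exact (mem_center_iff.1 this y).symm
      have hc' : commutator K = ⊥ := by
        rw [commutator_def, commutator_eq_bot_iff_le_centralizer]
        intro x _
        rw [mem_centralizer_iff]
        intro y _
        exact (hc x y).symm
      have h1 : (commutator L).map π = commutator K := by
        rw [commutator_def, commutator_def, map_commutator, ← MonoidHom.range_eq_map,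
          MonoidHom.range_eq_top.2 hπ.surj]
      rw [hπ.perf, hc', ← MonoidHom.range_eq_map, MonoidHom.range_eq_top.2 hπ.surj] at h1
      exact top_ne_bot h1
  obtain ⟨e'⟩ := quot_equiv hπ hcK
  have hi : Spor.IsoM22 (L ⧸ center L) := ⟨e'.trans e⟩
  have hp : ⁅L, L⁆ = L := by
    have h1 := hπ.perf
    rw [commutator_def] at h1
    have h2 : (⁅(⊤ : Subgroup L), (⊤ : Subgroup L)⁆).map L.subtype = (⊤ : Subgroup L).map L.subtype := by rw [h1]
    rw [map_commutator, ← MonoidHom.range_eq_map, range_subtype] at h2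
    exact h2
  obtain ⟨h1, h2, h3⟩ := row_cfg' C hL hp hi hX
  exact ⟨h1, h2, hi, h3⟩

end Cfsg.Agent.Omega.EH3.M22.OfCfg

end
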